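import Cfsg.Agent.Lib.SmallOrders.PrincipalDegree
import Cfsg.Agent.Lib.SmallOrder
import Cfsg.Agent.Lib.Blocks.Vanishing
import Cfsg.Agent.Lib.Products
import Cfsg.Prelude.Def_LocalStructure

/-!
A lower bound for the order of a finite group whose Sylow `p`-subgroups are not normal.
-/

set_option autoImplicit false
set_option linter.unusedSectionVars false

namespace CfsgLib.NonClosed

open Cfsg CfsgLib.CharTheory CfsgLib.Blocks CfsgLib.SmallOrders
open scoped Pointwise

universe u

variable {p : ℕ} [Fact p.Prime]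

/-- A group with a normal Sylow subgroup is `p`-closed. -/
theorem isPClosed_of_normal {H : Type*} [Group H] [Finite H] (P : Sylow p H) (h : (P : Subgroup H).Normal) :
    IsPClosed p H := fun Q => by
  haveI := h
  haveI := (Sylow.unique_of_normal P h)
  rw [Subsingleton.elim Q P]
  exact h

/-- The order of a product with a normal subgroup. -/
theorem card_dvd_mul_of_sup {H : Type*} [Group H] [Finite H] {A N : Subgroup H} [N.Normal] (h : A ⊔ N = ⊤) :
    Nat.card H ∣ Nat.card A * Nat.card N := by
  rw [Subgroup.card_eq_card_quotient_mul_card_subgroup N]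
  refine Nat.mul_dvd_mul_right (Subgroup.card_dvd_of_surjective ((QuotientGroup.mk' N).comp A.subtype) ?_) _
  intro q
  obtain ⟨x, rfl⟩ := QuotientGroup.mk'_surjective N q
  obtain ⟨a, ha, n, hn, rfl⟩ : x ∈ (A : Set H) * (N : Set H) := by
    rw [← Subgroup.mul_normal, h]
    trivial
  exact ⟨⟨a, ha⟩, (QuotientGroup.eq (s := N)).2 (by simpa using hn)⟩

/-- No simple group has so small an order. -/
theorem no_simple_of_small {G : Type u} [Group G] [Finite G] [IsSimpleGroup G] (hp : p ≠ 2)
    (hna : ∃ a b : G, a * b ≠ b * a) (P : Sylow p G) (hP : Nat.card P = p)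
    (hsmall : 2 * Nat.card G < p * (p ^ 2 - 1)) : False := by
  classical
  haveI : Fintype G := Fintype.ofFinite G
  have hpp : p.Prime := Fact.out
  have hp3 : 3 ≤ p := by have := hpp.two_le; omega
  set N := Subgroup.normalizer ((P : Subgroup G) : Set G) with hN
  set C := Subgroup.centralizer ((P : Subgroup G) : Set G) with hC
  have hP0 : (P : Subgroup G) ≠ ⊥ := fun e => by
    have : Nat.card P = 1 := by rw [show Nat.card P = Nat.card (P : Subgroup G) from rfl, e, Subgroup.card_bot]
    omega
  have hGp : Nat.card G ≠ Nat.card P := fun e => by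
    haveI := isCyclic_of_prime_card (α := G) (p := p) (e.trans hP)
    obtain ⟨a, b, hab⟩ := hna
    exact hab ((IsCyclic.commGroup (α := G)).mul_comm a b)
  set e := C.relIndex N with he
  have hCN : C ≤ N := Subgroup.centralizer_le_normalizer _
  have he2 : 2 ≤ e := by
    have h0 : e ≠ 0 := Subgroup.index_ne_zero_of_finite
    have h1 : e ≠ 1 := fun h => hGp
      (SmallOrder.card_eq_sylow_of_normalizer_le_centralizer P (Subgroup.relIndex_eq_one.1 h) hP0)
    omega
  -- the order of the centralizer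
  haveI : IsCyclic (P : Subgroup G) := isCyclic_of_prime_card (p := p) hP
  have hPC : (P : Subgroup G) ≤ C := Subgroup.le_centralizer _
  obtain ⟨d, hd⟩ : p ∣ Nat.card C := hP ▸ Subgroup.card_dvd_of_le hPC
  have hcardN : Nat.card N = p * d * e := by
    rw [← hd, he, Products.card_mul_relIndex_of_le hCN]
  set n := Nat.card (Sylow p G) with hn
  have hG : Nat.card G = p * (e * d * n) := by
    have h : Nat.card N * n = Nat.card G := SmallOrder.card_normalizer_mul_card_sylow P
    rw [← h, hcardN]; ring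
  have hn1 : n % p = 1 := by
    have h := card_sylow_modEq_one p G
    rw [Nat.ModEq, Nat.mod_eq_of_lt hpp.one_lt] at h
    exact h
  have hnp : p + 1 ≤ n := by
    have hne1 : n ≠ 1 := SmallOrder.card_sylow_ne_one P (by omega) hGp
    obtain ⟨k, hk⟩ : p ∣ n - 1 := (Nat.modEq_iff_dvd' (by
      rcases Nat.eq_zero_or_pos n with h | h
      · rw [h, Nat.zero_mod] at hn1; omega
      · exact h)).1 (by rw [Nat.ModEq, hn1, Nat.mod_eq_of_lt hpp.one_lt])
    have hn0 : 0 < n := Nat.card_pos
    rcases Nat.eq_zero_or_pos k with rfl | hk0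
    · omega
    · have : p ≤ p * k := Nat.le_mul_of_pos_right p hk0
      omega
  set g0 := e * d * n with hg0
  have hd0 : 0 < d := by
    rcases Nat.eq_zero_or_pos d with h | h
    · rw [h, mul_zero] at hd; exact absurd hd Nat.card_pos.ne'
    · exact h
  have hg : 2 * g0 < (p + 1) * (p - 1) := by
    rw [hG, mul_left_comm] at hsmall
    have := Nat.lt_of_mul_lt_mul_left hsmall
    rwa [show p ^ 2 - 1 = (p + 1) * (p - 1) by rw [← Nat.sq_sub_sq, one_pow]] at this
  have hed : 2 * (e * d) < p - 1 := by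
    by_contra hcon
    push Not at hcon
    have : (p + 1) * (p - 1) ≤ n * (2 * (e * d)) := Nat.mul_le_mul hnp hcon
    have e1 : n * (2 * (e * d)) = 2 * g0 := by rw [hg0]; ring
    omega
  obtain ⟨M, hM⟩ := exists_isPModular (Fact.out : p.Prime)
  obtain ⟨S⟩ := exists_shape hM hp P hP he.symm he2
  have hdvd : ∀ χ : IrrCharacter G, ¬ p ∣ charDegree (χ : G → ℂ) → ∃ w, g0 = charDegree (χ : G → ℂ) * w :=
    fun χ hχ => dvd_of_dvd_mul_prime hpp (hG ▸ Blocks.charDegree_dvd_card χ) hχ
  have hmodg : (p : ℤ) ∣ (g0 : ℤ) - (e * d : ℕ) := by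
    have h1 : (p : ℤ) ∣ (n : ℤ) - 1 := by
      have h := Nat.div_add_mod n p
      rw [hn1] at h
      generalize n / p = c at h
      exact ⟨c, by rw [← h]; push_cast; ring⟩
    obtain ⟨k, hk⟩ := h1
    refine ⟨(e * d : ℕ) * k, ?_⟩
    rw [hg0]
    push_cast
    linear_combination ((e : ℤ) * d) * hk
  have hed0 : 0 < e * d := Nat.mul_pos (by omega) hd0
  -- the non-exceptional characters
  have hX : ∀ χ ∈ S.X, S.δ χ = 1 ∧ charDegree (χ : G → ℂ) = n := by
    intro χ hχ
    obtain ⟨k, hk⟩ := S.degX χ hχ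
    set c := charDegree (χ : G → ℂ) with hc
    have hc2 : 2 ≤ c := two_le_charDegree hna (fun h => S.one_notX (h ▸ hχ))
    have hs := S.sign χ hχ
    have hnd : ¬ p ∣ c := by
      intro hpc
      have h1 : (p : ℤ) ∣ 1 := by
        have h2 : (p : ℤ) ∣ S.δ χ * (c : ℤ) := Dvd.dvd.mul_left (Int.natCast_dvd_natCast.2 hpc) _
        have h3 : (p : ℤ) ∣ S.δ χ * c - (S.δ χ * c - 1) := dvd_sub h2 ⟨k, hk⟩
        simpa using h3
      exact hpp.not_dvd_one (Int.natCast_dvd_natCast.1 (by simpa using h1))
    have hcp : p - 1 ≤ c := by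
      by_contra hlt
      rcases hs with hd' | hd' <;> rw [hd'] at hk
      · have : (p : ℤ) ∣ ((c - 1 : ℕ) : ℤ) := ⟨k, by push_cast [show 1 ≤ c by omega]; linarith⟩
        have := Nat.le_of_dvd (by omega) (Int.natCast_dvd_natCast.1 this)
        omega
      · have : (p : ℤ) ∣ ((c + 1 : ℕ) : ℤ) := ⟨-k, by push_cast; linarith⟩
        have := Nat.le_of_dvd (by omega) (Int.natCast_dvd_natCast.1 this)
        omega
    obtain ⟨w, hw⟩ := hdvd χ hnd
    rw [← hc] at hw
    have hwlt : 2 * w < p + 1 := by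
      by_contra hcon
      push Not at hcon
      have h1 : (p + 1) * (p - 1) ≤ 2 * w * c := Nat.mul_le_mul hcon hcp
      have h2 : 2 * w * c = 2 * g0 := by rw [hw]; ring
      omega
    rcases hs with hd' | hd'
    · refine ⟨hd', ?_⟩
      rw [hd'] at hk
      have h1 : (p : ℤ) ∣ (w : ℤ) - (e * d : ℕ) := by
        have h3 : (p : ℤ) ∣ (g0 : ℤ) - w := ⟨k * w, by rw [hw]; push_cast; linear_combination (w : ℤ) * hk⟩
        have := dvd_sub hmodg h3
        simpa [sub_sub_sub_cancel_left] using this
      have h2 := Int.eq_zero_of_abs_lt_dvd h1 (abs_lt.2 ⟨by omega, by omega⟩)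
      have h4 : w = e * d := by omega
      rw [h4, hg0, mul_comm c] at hw
      exact (Nat.eq_of_mul_eq_mul_left hed0 hw).symm
    · exfalso
      rw [hd'] at hk
      have h1 : (p : ℤ) ∣ ((w + e * d : ℕ) : ℤ) := by
        have h3 : (p : ℤ) ∣ (g0 : ℤ) + w := ⟨-k * w, by rw [hw]; push_cast; linear_combination (-(w : ℤ)) * hk⟩
        have := dvd_sub h3 hmodg
        push_cast at this ⊢
        simpa [add_sub_sub_cancel] using this
      have h2 := Nat.le_of_dvd (by omega) (Int.natCast_dvd_natCast.1 h1)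
      omega
  -- an exceptional character
  obtain ⟨ψ, hψ⟩ : S.Y.Nonempty := Finset.card_pos.1 (S.cardY ▸ S.cardY_pos)
  have hrel := S.degree_relation hpp hψ
  rw [Finset.sum_congr rfl (g := fun _ => (n : ℤ)) (fun χ hχ => by rw [(hX χ hχ).1, (hX χ hχ).2, one_mul]),
    Finset.sum_const, S.cardX, nsmul_eq_mul] at hrel
  set x := charDegree (ψ : G → ℂ) with hx
  have hε : S.ε = 1 := by
    refine S.signY.resolve_right fun h => ?_
    rw [h] at hrel
    have : (0 : ℤ) ≤ ((e - 1 : ℕ) : ℤ) * n := by positivity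
    have : (0 : ℤ) ≤ (x : ℤ) := by positivity
    linarith
  rw [hε, one_mul] at hrel
  have hx' : x = 1 + (e - 1) * n := by exact_mod_cast hrel
  obtain ⟨k, hk⟩ := S.degY ψ hψ
  rw [hε, one_mul] at hk
  have hxnd : ¬ p ∣ x := by
    intro hpx
    have h3 : (p : ℤ) ∣ (e : ℤ) := by
      have := dvd_sub (Int.natCast_dvd_natCast.2 hpx) ⟨k, hk⟩
      rwa [← hx, sub_sub_cancel] at this
    have := Nat.le_of_dvd (by omega) (Int.natCast_dvd_natCast.1 h3)
    have : e ≤ e * d := Nat.le_mul_of_pos_right e hd0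
    omega
  obtain ⟨w, hw⟩ := hdvd ψ hxnd
  rw [← hx] at hw
  have hxp : p + 1 ≤ x := by
    have : n ≤ (e - 1) * n := Nat.le_mul_of_pos_left n (by omega)
    omega
  have hwlt : 2 * w < p - 1 := by
    by_contra hcon
    push Not at hcon
    have h1 : (p + 1) * (p - 1) ≤ x * (2 * w) := Nat.mul_le_mul hxp hcon
    have h2 : x * (2 * w) = 2 * g0 := by rw [hw]; ring
    omega
  have h1 : (p : ℤ) ∣ (e : ℤ) * ((w : ℤ) - d) := by
    have h3 : (p : ℤ) ∣ (g0 : ℤ) - e * w := ⟨k * w, by rw [hw]; push_cast; linear_combination (w : ℤ) * hk⟩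
    have := dvd_sub hmodg h3
    push_cast at this
    simpa [mul_sub] using this
  have h2 : (p : ℤ) ∣ (w : ℤ) - d := (Int.Prime.dvd_mul' hpp h1).resolve_left fun h => by
    have := Nat.le_of_dvd (by omega) (Int.natCast_dvd_natCast.1 h)
    have : e ≤ e * d := Nat.le_mul_of_pos_right e hd0
    omega
  have hdle : d ≤ e * d := Nat.le_mul_of_pos_left d (by omega)
  have h3 := Int.eq_zero_of_abs_lt_dvd h2 (abs_lt.2 ⟨by omega, by omega⟩)
  have h4 : w = d := by omega
  rw [h4, hg0, mul_comm x d, mul_comm e d, mul_assoc] at hw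
  have h5 : e * n = x := Nat.eq_of_mul_eq_mul_left hd0 hw
  obtain ⟨e', he'⟩ : ∃ e', e = e' + 1 := ⟨e - 1, by omega⟩
  rw [he', Nat.add_sub_cancel] at hx'
  rw [he', Nat.succ_mul] at h5
  omega

/-- A group with a Sylow subgroup of order `p` which is not normal and normalizes a proper normal subgroup of order
prime to `p` is large. -/
theorem card_ge_of_coprime_normal {G : Type u} [Group G] [Finite G] (P : Sylow p G) (hP : Nat.card P = p)
    (N : Subgroup G) [N.Normal] (hN : ¬ p ∣ Nat.card N) (hPN : (P : Subgroup G) ⊔ N = ⊤)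
    (hncl : ¬ IsPClosed p G) :
    ∃ m, IsPrimePow m ∧ m % p = 1 ∧ p * m ≤ Nat.card G := by
  classical
  have hpp : p.Prime := Fact.out
  -- some invariant Sylow subgroup of `N` is not centralized
  have hinv : ∀ q : ℕ, q.Prime → q ∣ Nat.card N → ∃ Q : Subgroup G, Q ≤ N ∧ IsPGroup q Q ∧
      q ^ (Nat.card N).factorization q = Nat.card Q ∧ (P : Subgroup G) ≤ Subgroup.normalizer (Q : Set G) := by
    intro q hq hqN
    haveI := Fact.mk hq
    obtain ⟨R⟩ := (inferInstance : Nonempty (Sylow q N))
    set Q := (R : Subgroup N).map N.subtype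
    have hfr : Subgroup.normalizer (Q : Set G) ⊔ N = ⊤ := Sylow.normalizer_sup_eq_top R
    have hdvd : p ∣ Nat.card (Subgroup.normalizer (Q : Set G)) :=
      (hpp.dvd_mul.1 ((hP ▸ (P : Subgroup G).card_subgroup_dvd_card).trans (card_dvd_mul_of_sup hfr))).resolve_right hN
    obtain ⟨x, hx⟩ := exists_prime_orderOf_dvd_card' p hdvd
    have hxp : IsPGroup p (Subgroup.zpowers (x : G)) := IsPGroup.of_card (n := 1) (by
      rw [Nat.card_zpowers, Subgroup.orderOf_coe, hx, pow_one])
    obtain ⟨T, hT⟩ := hxp.exists_le_sylow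
    have hTp : Nat.card (T : Subgroup G) = p :=
      (T.card_eq_multiplicity.trans P.card_eq_multiplicity.symm).trans hP
    have hTx : Subgroup.zpowers (x : G) = (T : Subgroup G) := Subgroup.eq_of_le_of_card_ge hT (by
      rw [Nat.card_zpowers, Subgroup.orderOf_coe, hx, hTp])
    obtain ⟨g, hg⟩ := MulAction.exists_smul_eq G T P
    refine ⟨Q.map (MulAut.conj g).toMonoidHom, ?_, (R.2.map _).map _, ?_, ?_⟩
    · refine (Subgroup.map_mono (Subgroup.map_subtype_le _)).trans ?_
      exact (Subgroup.Normal.map_conj_eq N g).le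
    · rw [Subgroup.card_map_of_injective (MulAut.conj g).injective,
        Subgroup.card_map_of_injective N.subtype_injective, ← R.card_eq_multiplicity]
    · rw [← hg, Sylow.coe_subgroup_smul, Subgroup.pointwise_smul_def,
        ← Subgroup.map_equiv_normalizer_eq, ← hTx]
      exact Subgroup.map_mono (Subgroup.zpowers_le.2 x.2)
  by_contra hcon
  push Not at hcon
  refine hncl (isPClosed_of_normal P ?_)
  set C := Subgroup.centralizer ((P : Subgroup G) : Set G)
  suffices hNC : N ≤ C by
    refine Subgroup.normalizer_eq_top_iff.1 (top_le_iff.1 ?_)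
    rw [← hPN]
    exact sup_le Subgroup.le_normalizer (hNC.trans (Subgroup.centralizer_le_normalizer _))
  have hcardN : Nat.card N ∣ Nat.card ↥(N ⊓ C) := by
    refine (Nat.factorization_prime_le_iff_dvd Nat.card_pos.ne' Nat.card_pos.ne').1 fun q hq => ?_
    by_cases hqN : q ∣ Nat.card N
    swap
    · rw [Nat.factorization_eq_zero_of_not_dvd hqN]; exact Nat.zero_le _
    haveI := Fact.mk hq
    obtain ⟨Q, hQN, hQp, hQcard, hPQ⟩ := hinv q hq hqN
    have hQC : Q ≤ C := by
      set K := Q ⊔ (P : Subgroup G)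
      let P' : Sylow p K := P.subtype le_sup_right
      have hQn : (Q.subgroupOf K).Normal := Subgroup.normal_subgroupOf_of_le_normalizer
        (sup_le Subgroup.le_normalizer hPQ)
      have hsupK : (P' : Subgroup K) ⊔ Q.subgroupOf K = ⊤ := by
        show (P : Subgroup G).subgroupOf K ⊔ Q.subgroupOf K = ⊤
        rw [← Subgroup.subgroupOf_sup le_sup_right le_sup_left, sup_comm, Subgroup.subgroupOf_self]
      have hpQ : ¬ p ∣ Nat.card (Q.subgroupOf K) := by
        rw [Nat.card_congr (Subgroup.subgroupOfEquivOfLe (le_sup_left : Q ≤ K)).toEquiv]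
        exact fun h => hN (h.trans (Subgroup.card_dvd_of_le hQN))
      -- the number of Sylow subgroups of `QP`
      have hnum : Nat.card (Sylow p K) ∣ Nat.card (Q.subgroupOf K) := by
        rw [P'.card_eq_index_normalizer]
        refine (Subgroup.index_dvd_of_le Subgroup.le_normalizer).trans ?_
        have h := card_dvd_mul_of_sup hsupK
        rw [← (P' : Subgroup K).card_mul_index] at h
        exact Nat.dvd_of_mul_dvd_mul_left Nat.card_pos h
      rw [Nat.card_congr (Subgroup.subgroupOfEquivOfLe (le_sup_left : Q ≤ K)).toEquiv, ← hQcard] at hnum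
      obtain ⟨j, -, hj⟩ := (Nat.dvd_prime_pow hq).1 hnum
      have hmod : Nat.card (Sylow p K) % p = 1 := by
        have h := card_sylow_modEq_one p K
        rw [Nat.ModEq, Nat.mod_eq_of_lt hpp.one_lt] at h
        exact h
      rcases Nat.eq_zero_or_pos j with rfl | hj0
      · -- normal
        rw [pow_zero] at hj
        haveI : Subsingleton (Sylow p K) := (Nat.card_eq_one_iff_unique.mp hj).1
        haveI := Sylow.characteristic_of_subsingleton P'
        haveI hP'n : (P' : Subgroup K).Normal := inferInstance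
        intro a ha b hb
        have hd : Disjoint (Q.subgroupOf K) (P' : Subgroup K) := by
          rw [disjoint_iff]
          refine Subgroup.inf_eq_bot_of_coprime ?_
          rw [show Nat.card (P' : Subgroup K) = p from
            (Nat.card_congr (Subgroup.subgroupOfEquivOfLe (le_sup_right : _ ≤ K)).toEquiv).trans hP]
          exact (hpp.coprime_iff_not_dvd.2 hpQ).symm
        have h := Subgroup.commute_of_normal_of_disjoint (Q.subgroupOf K) (P' : Subgroup K) hQn hP'n hd
          ⟨a, Subgroup.mem_sup_left ha⟩ ⟨b, Subgroup.mem_sup_right hb⟩ ha hb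
        exact (congrArg Subtype.val h.eq).symm
      · exfalso
        have hm := hcon (q ^ j) ((isPrimePow_nat_iff _).2 ⟨q, j, hq, hj0, rfl⟩) (hj ▸ hmod)
        refine absurd ?_ hm.not_ge
        have h2 := SmallOrder.card_normalizer_mul_card_sylow P'
        rw [hj] at h2
        calc p * q ^ j ≤ Nat.card (Subgroup.normalizer ((P' : Subgroup K) : Set K)) * q ^ j := by
              refine Nat.mul_le_mul_right _ ?_
              calc p = Nat.card (P' : Subgroup K) :=
                    ((Nat.card_congr (Subgroup.subgroupOfEquivOfLe (le_sup_right : _ ≤ K)).toEquiv).trans hP).symm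
                _ ≤ _ := Subgroup.card_le_of_le Subgroup.le_normalizer
          _ = Nat.card K := h2
          _ ≤ Nat.card G := Nat.le_of_dvd Nat.card_pos K.card_subgroup_dvd_card
    have h1 : Nat.card Q ∣ Nat.card ↥(N ⊓ C) := Subgroup.card_dvd_of_le (le_inf hQN hQC)
    rw [← hQcard] at h1
    exact (hq.pow_dvd_iff_le_factorization Nat.card_pos.ne').1 h1
  intro x hx
  have : N ⊓ C = N := Subgroup.eq_of_le_of_card_ge inf_le_left (Nat.le_of_dvd Nat.card_pos hcardN)
  exact (this.ge hx).2

/-- The bound. -/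
theorem bound (hp : p ≠ 2) {m : ℕ} (hleast : ∀ k : ℕ, IsPrimePow k → k % p = 1 → m ≤ k) :
    ∀ (H : Type u) [Group H] [Finite H], ¬ IsPClosed p H →
      min (p * m) (p * (p ^ 2 - 1) / 2) ≤ Nat.card H := by
  suffices main : ∀ (c : ℕ) (H : Type u) [Group H] [Finite H], Nat.card H = c → ¬ IsPClosed p H →
      min (p * m) (p * (p ^ 2 - 1) / 2) ≤ Nat.card H from fun H _ _ h => main _ H rfl h
  intro c
  induction c using Nat.strong_induction_on with
  | h c ih =>
  intro H _ _ hc hncl
  subst hc
  classical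
  have hpp : p.Prime := Fact.out
  by_contra hlt
  push Not at hlt
  obtain ⟨hlt1, hlt2⟩ := lt_min_iff.1 hlt
  have hlt3 : 2 * Nat.card H < p * (p ^ 2 - 1) := by
    have := Nat.div_mul_le_self (p * (p ^ 2 - 1)) 2
    omega
  obtain ⟨P⟩ := (inferInstance : Nonempty (Sylow p H))
  have hn1 : Nat.card (Sylow p H) ≠ 1 := fun h => by
    haveI : Subsingleton (Sylow p H) := (Nat.card_eq_one_iff_unique.mp h).1
    haveI := Sylow.characteristic_of_subsingleton P
    exact hncl (isPClosed_of_normal P inferInstance)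
  have hnp : p + 1 ≤ Nat.card (Sylow p H) := by
    have hn0 : 0 < Nat.card (Sylow p H) := Nat.card_pos
    have h := Nat.le_of_dvd (by omega) ((Nat.modEq_iff_dvd' (by omega)).1 (card_sylow_modEq_one p H).symm)
    omega
  have hmul := SmallOrder.card_normalizer_mul_card_sylow P
  obtain ⟨a, ha⟩ := P.2.exists_card_eq
  have hPN : Nat.card (P : Subgroup H) * (p + 1) ≤ Nat.card H := by
    rw [← hmul]
    exact Nat.mul_le_mul (Subgroup.card_le_of_le Subgroup.le_normalizer) hnp
  have hP : Nat.card P = p := by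
    have ha0 : a ≠ 0 := fun e => by
      rw [e, pow_zero, Subgroup.card_eq_one] at ha
      exact hncl (isPClosed_of_normal P (by rw [ha]; infer_instance))
    by_contra hne
    have ha2 : 2 ≤ a := by
      by_contra h
      interval_cases a
      · exact ha0 rfl
      · exact hne (ha.trans (pow_one p))
    have h1 : p * p ≤ Nat.card (P : Subgroup H) := by
      rw [ha, ← pow_two]; exact Nat.pow_le_pow_right hpp.pos ha2
    have h2 : p * p * (p + 1) * 2 ≤ 2 * Nat.card H := by
      have := Nat.mul_le_mul_right (p + 1) h1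
      omega
    have h3 : p * (p ^ 2 - 1) ≤ p * p * (p + 1) * 2 := by
      calc p * (p ^ 2 - 1) ≤ p * p ^ 2 := Nat.mul_le_mul_left _ (Nat.sub_le _ _)
        _ = p * p * p := by ring
        _ ≤ p * p * (p + 1) := Nat.mul_le_mul_left _ (Nat.le_succ p)
        _ ≤ _ := Nat.le_mul_of_pos_right _ two_pos
    omega
  have hsub : ∀ K : Subgroup H, K ≠ ⊤ → IsPClosed p K := fun K hK => by
    by_contra h
    have hl : Nat.card K < Nat.card H := lt_of_le_of_ne (Nat.le_of_dvd Nat.card_pos K.card_subgroup_dvd_card)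
      fun e => hK (Subgroup.eq_top_of_card_eq K e)
    have := ih _ hl K rfl h
    omega
  by_cases hsimple : IsSimpleGroup H
  · refine no_simple_of_small (p := p) hp ?_ P hP hlt3
    by_contra hab
    push Not at hab
    exact hncl (isPClosed_of_normal P ⟨fun x hx g => by rw [hab g x, mul_inv_cancel_right]; exact hx⟩)
  haveI : Nontrivial H := Finite.one_lt_card_iff_nontrivial.1 (by
    have := hP ▸ Nat.le_of_dvd Nat.card_pos (P : Subgroup H).card_subgroup_dvd_card
    have := hpp.two_le
    omega)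
  obtain ⟨N, hNn, hN0, hNT⟩ : ∃ N : Subgroup H, N.Normal ∧ N ≠ ⊥ ∧ N ≠ ⊤ := by
    by_contra h
    push Not at h
    exact hsimple ⟨fun N hN => or_iff_not_imp_left.2 (h N hN)⟩
  haveI := hNn
  -- quotient
  have hquot : IsPClosed p (H ⧸ N) := by
    by_contra h
    have hl : Nat.card (H ⧸ N) < Nat.card H := by
      rw [Subgroup.card_eq_card_quotient_mul_card_subgroup N]
      refine lt_mul_of_one_lt_right Nat.card_pos ?_
      rw [Finite.one_lt_card_iff_nontrivial]
      exact (Subgroup.nontrivial_iff_ne_bot N).2 hN0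
    have := ih _ hl (H ⧸ N) rfl h
    omega
  have hPNn : ((P : Subgroup H) ⊔ N).Normal := by
    have h1 := hquot (P.mapSurjective (QuotientGroup.mk'_surjective N))
    have h2 := h1.comap (QuotientGroup.mk' N)
    rwa [Sylow.coe_mapSurjective, Subgroup.comap_map_eq, QuotientGroup.ker_mk'] at h2
  by_cases hPNtop : (P : Subgroup H) ⊔ N = ⊤
  swap
  · haveI := hPNn
    let P' : Sylow p ↥((P : Subgroup H) ⊔ N) := P.subtype le_sup_left
    haveI hP'n : (P' : Subgroup ↥((P : Subgroup H) ⊔ N)).Normal := hsub _ hPNtop P'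
    haveI := Sylow.unique_of_normal P' hP'n
    haveI := Sylow.characteristic_of_subsingleton P'
    refine hncl (isPClosed_of_normal P ?_)
    have := ConjAct.normal_of_characteristic_of_normal (H := (P : Subgroup H) ⊔ N) (K := (P' : Subgroup ↥((P : Subgroup H) ⊔ N)))
    rwa [show (P' : Subgroup ↥((P : Subgroup H) ⊔ N)) = (P : Subgroup H).subgroupOf ((P : Subgroup H) ⊔ N) from rfl,
      Subgroup.map_subgroupOf_eq_of_le le_sup_left] at this
  have hpN : ¬ p ∣ Nat.card N := by
    intro hpN
    obtain ⟨x, hx⟩ := exists_prime_orderOf_dvd_card' p hpN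
    have hxp : IsPGroup p (Subgroup.zpowers (x : H)) := IsPGroup.of_card (n := 1) (by
      rw [Nat.card_zpowers, Subgroup.orderOf_coe, hx, pow_one])
    obtain ⟨T, hT⟩ := hxp.exists_le_sylow
    have hTN : (T : Subgroup H) ≤ N := by
      have hTp : Nat.card (T : Subgroup H) = p :=
        (T.card_eq_multiplicity.trans P.card_eq_multiplicity.symm).trans hP
      rw [← Subgroup.eq_of_le_of_card_ge hT (by
        rw [Nat.card_zpowers, Subgroup.orderOf_coe, hx, hTp])]
      exact Subgroup.zpowers_le.2 x.2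
    obtain ⟨g, hg⟩ := MulAction.exists_smul_eq H T P
    refine hNT (hPNtop ▸ (sup_eq_right.2 ?_).symm)
    rw [← hg, Sylow.coe_subgroup_smul, Subgroup.pointwise_smul_def, ← Subgroup.Normal.map_conj_eq N g]
    exact Subgroup.map_mono hTN
  obtain ⟨k, hk, hk1, hkle⟩ := card_ge_of_coprime_normal P hP N hpN hPNtop hncl
  have := Nat.mul_le_mul_left p (hleast k hk hk1)
  omega

end CfsgLib.NonClosed
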