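import Cfsg.Agent.Lib.NonClosed.Bound
import Cfsg.Agent.Lib.SLCard
import Mathlib.FieldTheory.Finite.GaloisField
import Mathlib.LinearAlgebra.Matrix.ProjectiveSpecialLinearGroup

/-!
The smallest groups with non-normal Sylow `p`-subgroups.
-/

set_option autoImplicit false
set_option linter.unusedSectionVars false

namespace CfsgLib.NonClosed

open Cfsg

variable (p : ℕ) [Fact p.Prime]

/-- The affine example. -/
theorem exists_affine {m : ℕ} (hm : IsPrimePow m) (hm1 : m % p = 1) :
    ∃ (H : Type) (_ : Group H) (_ : Finite H), Nat.card H = p * m ∧ ¬ IsPClosed p H := by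
  have hpp : p.Prime := Fact.out
  obtain ⟨r, k, hr, hk, rfl⟩ := (isPrimePow_nat_iff m).1 hm
  haveI := Fact.mk hr
  let F := GaloisField r k
  have hF : Nat.card F = r ^ k := GaloisField.card r k hk.ne'
  haveI : Fintype F := Fintype.ofFinite F
  have hdvd : p ∣ Nat.card Fˣ := by
    rw [Nat.card_units, hF]
    refine ⟨r ^ k / p, ?_⟩
    have := Nat.div_add_mod (r ^ k) p
    omega
  obtain ⟨ζ, hζ⟩ := exists_prime_orderOf_dvd_card' p hdvd
  let C : Subgroup Fˣ := Subgroup.zpowers ζ
  have hC : Nat.card C = p := (Nat.card_zpowers ζ).trans hζ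
  let φ : C →* MulAut (Multiplicative F) := MonoidHom.mk' (fun u => AddEquiv.toMultiplicative (AddAut.mulLeft (u : Fˣ)))
    fun a b => by
      ext x
      simp only [Subgroup.coe_mul, map_mul]
      rfl
  refine ⟨Multiplicative F ⋊[φ] C, inferInstance, Finite.of_equiv _ SemidirectProduct.equivProd.symm, ?_, ?_⟩
  · rw [SemidirectProduct.card, hC, Nat.card_congr Multiplicative.toAdd, hF, mul_comm]
  haveI : Finite (Multiplicative F ⋊[φ] C) := Finite.of_equiv _ SemidirectProduct.equivProd.symm
  intro hcl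
  obtain ⟨P⟩ := (inferInstance : Nonempty (Sylow p (Multiplicative F ⋊[φ] C)))
  have hpm : ¬ p ∣ r ^ k := fun h => by
    rw [Nat.dvd_iff_mod_eq_zero.1 h] at hm1
    omega
  haveI := hcl P
  let π : Multiplicative F ⋊[φ] C →* C := SemidirectProduct.rightHom
  let R : Subgroup (Multiplicative F ⋊[φ] C) := (SemidirectProduct.inr : C →* _).range
  have hR : Nat.card R = p := by
    rw [← hC]
    exact Nat.card_congr (MonoidHom.ofInjective SemidirectProduct.inr_injective).toEquiv.symm
  obtain ⟨T, hT⟩ := (IsPGroup.of_card (n := 1) (by rw [hR, pow_one]) : IsPGroup p R).exists_le_sylow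
  have hTn := hcl T
  -- the Sylow subgroup meets the normal subgroup trivially, so it centralizes it
  let L : Subgroup (Multiplicative F ⋊[φ] C) := (SemidirectProduct.inl : Multiplicative F →* _).range
  have hL : Nat.card L = r ^ k := by
    rw [← hF]
    exact (Nat.card_congr (MonoidHom.ofInjective SemidirectProduct.inl_injective).toEquiv.symm).trans
      (Nat.card_congr Multiplicative.toAdd)
  haveI : L.Normal := by
    show (SemidirectProduct.inl : Multiplicative F →* _).range.Normal
    rw [SemidirectProduct.range_inl_eq_ker_rightHom]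
    infer_instance
  have hdis : Disjoint L (T : Subgroup _) := by
    rw [disjoint_iff]
    refine Subgroup.inf_eq_bot_of_coprime ?_
    rw [hL]
    obtain ⟨a, ha⟩ := T.2.exists_card_eq
    rw [ha]
    exact Nat.Coprime.pow_right a (hpp.coprime_iff_not_dvd.2 hpm).symm
  have hζC : ζ ∈ C := Subgroup.mem_zpowers ζ
  have h := Subgroup.commute_of_normal_of_disjoint L (T : Subgroup _) inferInstance hTn hdis
    (SemidirectProduct.inl (Multiplicative.ofAdd (1 : F))) (SemidirectProduct.inr ⟨ζ, hζC⟩) ⟨_, rfl⟩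
    (hT ⟨_, rfl⟩)
  have h2 := congrArg SemidirectProduct.left h.eq
  simp [φ] at h2
  have : ζ = 1 := Units.ext ((mul_one (ζ : F)).symm.trans (congrArg Multiplicative.toAdd h2.symm))
  rw [this, orderOf_one] at hζ
  exact hpp.ne_one hζ.symm

/-- The linear example. -/
theorem exists_linear (hp5 : 5 ≤ p) :
    ∃ (H : Type) (_ : Group H) (_ : Finite H), Nat.card H = p * (p ^ 2 - 1) / 2 ∧ ¬ IsPClosed p H := by
  have hpp : p.Prime := Fact.out
  let H := Matrix.ProjectiveSpecialLinearGroup (Fin 2) (ZMod p)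
  haveI : Finite H := inferInstance
  have hcard : 2 * Nat.card H = p * (p ^ 2 - 1) := by
    have h := SLCard.gcd_mul_card_PSL (F := ZMod p) (n := 2) (by norm_num)
    rw [SLCard.card_SL_two, ZMod.card] at h
    have h2 : 2 ∣ p - 1 := by
      have := hpp.odd_of_ne_two (by omega)
      rw [Nat.odd_iff] at this
      omega
    rwa [Nat.gcd_eq_left h2] at h
  refine ⟨H, inferInstance, inferInstance, by rw [← hcard]; omega, fun hcl => ?_⟩
  haveI : IsSimpleGroup H := Matrix.ProjectiveSpecialLinearGroup.rank_two_simple (by rw [Nat.card_zmod]; omega)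
  obtain ⟨P⟩ := (inferInstance : Nonempty (Sylow p H))
  have hn := hcl P
  have hpH : p ∣ Nat.card H := by
    have h1 : p ∣ 2 * Nat.card H := hcard ▸ dvd_mul_right _ _
    exact ((hpp.dvd_mul).1 h1).resolve_left fun h => by have := Nat.le_of_dvd two_pos h; omega
  rcases hn.eq_bot_or_eq_top with e | e
  · exact P.ne_bot_of_dvd_card hpH e
  · obtain ⟨a, ha⟩ := P.2.exists_card_eq
    rw [e, Subgroup.card_top] at ha
    have h2 : 2 ∣ p ^ a := by
      rw [← ha]
      obtain ⟨c, hc⟩ : 4 ∣ p ^ 2 - 1 := by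
        obtain ⟨j, rfl⟩ := hpp.odd_of_ne_two (by omega)
        refine ⟨j * (j + 1), ?_⟩
        have : (2 * j + 1) ^ 2 = 4 * (j * (j + 1)) + 1 := by ring
        omega
      rw [hc] at hcard
      exact ⟨p * c, by rw [mul_left_comm] at hcard; omega⟩
    have := (Nat.prime_dvd_prime_iff_eq Nat.prime_two hpp).1 (Nat.prime_two.dvd_of_dvd_pow h2)
    omega

end CfsgLib.NonClosed
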